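import Cfsg.Agent.Comp.J1.Lin
import Cfsg.Prelude.Def_Spor_J1

/-! Order and element orders of the first Janko group. -/

set_option autoImplicit false

namespace Cfsg.Agent.Comp.J1

open Cfsg.Spor

def gens : ℕ → GL (Fin 7) (ZMod 11) := fun j => [jankoX, jankoY].getD j 1

theorem hgen : ∀ j, j < J.m0 → (gens j : Matrix (Fin 7) (Fin 7) (ZMod 11)) =
    mat (fun a => (a : ZMod 11)) S (Equiv.refl (Fin 7)) (nth As j) := by
  intro j hj
  have hj' : j < 2 := hj
  interval_cases j
  · show jankoMatrixX = _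
    decide +kernel
  · show jankoMatrixY = _
    decide +kernel

theorem G_eq : J.G gens = Cfsg.Spor.J1 := by
  unfold Job.G Cfsg.Spor.J1
  congr 1
  ext g
  constructor
  · rintro ⟨j, hj, rfl⟩
    have hj' : j < 2 := hj
    interval_cases j <;> simp [gens]
  · intro hg
    simp only [Set.mem_insert_iff, Set.mem_singleton_iff] at hg
    rcases hg with rfl | rfl
    · exact ⟨0, by show _ < 2; omega, rfl⟩
    · exact ⟨1, by show _ < 2; omega, rfl⟩

theorem card_J1 : Nat.card Cfsg.Spor.J1 = 175560 := by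
  rw [← G_eq]; exact card (model (zOps_sem 11) _ gens hgen)

theorem finite_J1 : Finite Cfsg.Spor.J1 := by
  rw [← G_eq]; exact finite (model (zOps_sem 11) _ gens hgen)

theorem spec_J1 : Set.range (orderOf : Cfsg.Spor.J1 → ℕ) =
    {n | n ∈ [1, 2, 3, 5, 6, 7, 10, 11, 15, 19]} := by
  rw [← G_eq]; exact spec (model (zOps_sem 11) _ gens hgen)

end Cfsg.Agent.Comp.J1
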